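import Cfsg.Agent.H225.PPow.ChevF
import Cfsg.Agent.UGT.U2.FOne.TwESixEnd
import Cfsg.Agent.KFacts.RgdCent
import Cfsg.Agent.FastGrp
import Cfsg.Agent.Prune
set_option linter.all false
prune_inst 0x7f00000000000000000000000000000000000000000000000000000000000000000000000000000000000000000000000000000000000000000000000000000000000000000000000000000000000000003fffffffffffffffffffffffffffbeffbdffffffff
open scoped Cfsg.Agent.FastGrp

/-!
# The centraliser of a long root element of `F₄(q)` (S2465, block E of `F₄(3)`)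

`θ = vec chevF4 4 47` is the highest root (long), `J = {0, 1, 2}` (type `C₃`, the complement of the long end node `3`).

* `cpr_theta` : `⟨x, θ^∨⟩ = x 3`;
* `lr_theta` : `LR` for `θ`;
* `cent` : `C(x_θ(c)) = V_J ⟨X b : ⟨b, θ^∨⟩ = 0⟩` for `c ≠ 0`;
* `idxV`, `idxM` : the numbers of the 15 roots of `V_J` and of the 18 roots of `C₃`.
-/

set_option autoImplicit false
set_option linter.unusedSectionVars false

namespace Cfsg.Agent.H701.F43.Cent

open CoxeterSystem Cfsg.Agent.ChevalleyStructure.CoxeterGeom Cfsg.Agent.Tits.Roots Cfsg.Agent.Tits.Core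
  Cfsg.Agent.Tits.Exchange Cfsg.Agent.Nodes.Reps Cfsg.Agent.Nodes.BNOf Cfsg.Agent.Nodes.StabComb
  Cfsg.Agent.Nodes.Bruhat Cfsg.Agent.Nodes.OppDec Cfsg.Agent.Nodes.LeviDec Cfsg.Agent.Nodes.NormX
  Cfsg.Agent.Nodes.Coroot Cfsg.Agent.Nodes.RGDChev Cfsg.Agent.KFacts.RgdPar Cfsg.Agent.KFacts.RgdTI
  Cfsg.Agent.KFacts.RgdCent Cfsg.Agent.KFacts.RgdChevCoord Cfsg.Agent.Nodes.ChevCls
  Cfsg.Agent.OddHalf.NI.ModelChev Cfsg.Agent.H225.PPow
open Cfsg.Lie Cfsg.Agent.ChevalleyStructure Cfsg.Agent.ChevalleyStructure.Elts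
  Cfsg.Agent.ChevalleyStructure.RootVec Cfsg.Agent.ChevalleyStructure.NPerm
  Cfsg.Agent.ChevalleyStructure.CoxeterGeomTypes
open Cfsg.Agent.FixBN.FieldRGD (uu vv dd ww)

/-- the type -/
theorem hF : IsType chevF4 4 CoxeterMatrix.F₄ := Cfsg.Agent.Nodes.KindF.isType

/-- the Coxeter system -/
abbrev cF := CoxeterMatrix.F₄.toCoxeterSystem

/-- the nodes of `C₃` -/
abbrev J3 : Set (Fin 4) := {k | k ≠ 3}

theorem nroots : chevF4.nroots = 48 := by decide +kernel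

theorem word_theta : wact chevF4 ([3, 2, 1, 2, 0, 1, 2] : List (Fin 4)) (chevF4.simple (3 : Fin 4)) = 47 := by
  decide +kernel

theorem tab : ∀ s < chevF4.nroots,
    chevF4.cartan (3 : Fin 4) (wact chevF4 ([2, 1, 0, 2, 1, 2, 3] : List (Fin 4)) s) = vec chevF4 4 s 3 := by
  decide +kernel

theorem cart_theta : chevF4.cartan (3 : Fin 4) 47 = 1 := by decide +kernel

instance finW : Finite CoxeterMatrix.F₄.Group := finite_W hF cF

theorem theta_eq : vec chevF4 4 47 = rep cF hF.isCartan (cF.wordProd [3, 2, 1, 2, 0, 1, 2]) (sr 3) := by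
  rw [← vec_simple hF 3, rep_word hF cF _ (RootVec.simple_lt hF.checked (lt_rank hF 3))]
  exact congrArg (vec chevF4 4) word_theta.symm

theorem isRoot_theta : IsRoot cF hF.isCartan (vec chevF4 4 47) := ⟨_, 3, theta_eq⟩

/-- `⟨x, θ^∨⟩ = x 3` -/
theorem cpr_theta {x : Fin 4 → ℤ} (hx : IsRoot cF hF.isCartan x) : cpr cF hF.isCartan x (vec chevF4 4 47) = x 3 := by
  obtain ⟨r, hr, rfl⟩ := (isRoot_iff hF cF x).1 hx
  have h1 : cpr cF hF.isCartan (rep cF hF.isCartan (cF.wordProd [3, 2, 1, 2, 0, 1, 2])⁻¹ (vec chevF4 4 r)) (sr 3) =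
      cpr cF hF.isCartan (vec chevF4 4 r) (vec chevF4 4 47) := by
    rw [cpr_rep_left _ _ (isRoot_sr cF hF.isCartan 3), inv_inv, theta_eq]
  rw [← h1, ← wordProd_reverse]
  show cpr cF hF.isCartan (rep cF hF.isCartan (cF.wordProd [2, 1, 0, 2, 1, 2, 3]) (vec chevF4 4 r)) (sr 3) = _
  rw [rep_word hF cF _ hr, Cfsg.Agent.Nodes.ChevCls.cpr_vec hF cF 3 (wact_lt hF _ hr)]
  exact tab r hr

/-- the numbers of the roots of `V_J` -/
def idxV : List ℕ := [24, 26, 29, 31, 32, 36, 38, 39, 40, 42, 43, 44, 45, 46, 47]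

/-- the numbers of the roots of `C₃` -/
def idxM : List ℕ := [6, 10, 12, 13, 14, 17, 19, 20, 22, 25, 27, 28, 30, 33, 34, 35, 37, 41]

theorem tabV : ∀ r < chevF4.nroots, (0 < vec chevF4 4 r 3 ↔ r ∈ idxV) := by decide +kernel

theorem tabM : ∀ r < chevF4.nroots, (vec chevF4 4 r 3 = 0 ↔ r ∈ idxM) := by decide +kernel

theorem lt_idxV : ∀ r ∈ idxV, r < chevF4.nroots := by decide +kernel

theorem lt_idxM : ∀ r ∈ idxM, r < chevF4.nroots := by decide +kernel

theorem mem_NotJ {x : Fin 4 → ℤ} : x ∈ NotJ cF hF.isCartan J3 ↔ IsRoot cF hF.isCartan x ∧ 0 < x 3 := by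
  constructor
  · rintro ⟨h1, -, k, hk, h2⟩
    have h3 : k = 3 := by
      by_contra h
      exact hk h
    exact ⟨h1, h3 ▸ h2⟩
  · rintro ⟨h1, h2⟩
    exact ⟨h1, nonneg_of_pos_apply h1 h2, 3, fun h => h rfl, h2⟩

theorem mem_RootsJ {x : Fin 4 → ℤ} : x ∈ RootsJ cF hF.isCartan J3 ↔ IsRoot cF hF.isCartan x ∧ x 3 = 0 := by
  constructor
  · rintro ⟨h1, h2⟩
    exact ⟨h1, h2 3 fun h => h rfl⟩
  · rintro ⟨h1, h2⟩
    refine ⟨h1, fun k hk => ?_⟩
    have h3 : k = 3 := by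
      by_contra h
      exact hk h
    rw [h3, h2]

theorem mem_NotJ_iff {x : Fin 4 → ℤ} : x ∈ NotJ cF hF.isCartan J3 ↔ ∃ r ∈ idxV, x = vec chevF4 4 r := by
  rw [mem_NotJ]
  constructor
  · rintro ⟨h1, h2⟩
    obtain ⟨r, hr, rfl⟩ := (isRoot_iff hF cF x).1 h1
    exact ⟨r, (tabV r hr).1 h2, rfl⟩
  · rintro ⟨r, hr, rfl⟩
    exact ⟨(isRoot_iff hF cF _).2 ⟨r, lt_idxV r hr, rfl⟩, (tabV r (lt_idxV r hr)).2 hr⟩

theorem mem_RootsJ_iff {x : Fin 4 → ℤ} : x ∈ RootsJ cF hF.isCartan J3 ↔ ∃ r ∈ idxM, x = vec chevF4 4 r := by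
  rw [mem_RootsJ]
  constructor
  · rintro ⟨h1, h2⟩
    obtain ⟨r, hr, rfl⟩ := (isRoot_iff hF cF x).1 h1
    exact ⟨r, (tabM r hr).1 h2, rfl⟩
  · rintro ⟨r, hr, rfl⟩
    exact ⟨(isRoot_iff hF cF _).2 ⟨r, lt_idxM r hr, rfl⟩, (tabM r (lt_idxM r hr)).2 hr⟩

universe u

variable {K : Type u} [Field K] [Finite K]

section

variable (p : ℕ) [Fact p.Prime] [CharP K p]

theorem lrF4 : chkLR chevF4 0 (chevF4.simple 3) 3 = true := by decide +kernel

/-- `θ` is a long root -/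
theorem lr_theta : LR (rgd (K := K) hF cF p) (vec chevF4 4 47) := by
  have L : LR (rgd (K := K) hF cF p) (sr (3 : Fin 4)) := lr_tab hF cF p (d := 0) (dvd_zero _) lrF4
  rw [theta_eq]
  exact L.act _

/-- `V_J` -/
abbrev VV (K : Type u) [Field K] : Subgroup ↥(chevF4.group K) := VJ cF hF.isCartan (XX chevF4 4 K) J3

/-- the derived group of the Levi complement (type `C₃`) -/
abbrev MM (K : Type u) [Field K] : Subgroup ↥(chevF4.group K) :=
  RGD.Sup (XX chevF4 4 K) (RootsJ cF hF.isCartan J3)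

include p in
theorem MM_le_normalizer : MM K ≤ Subgroup.normalizer (VV K : Set ↥(chevF4.group K)) :=
  le_trans le_sup_right (LJ_le_normalizer_VJ (rgd (K := K) hF cF p) J3)

include p in
theorem TT_le_normalizer : TT chevF4 K ≤ Subgroup.normalizer (VV K : Set ↥(chevF4.group K)) :=
  (rgd (K := K) hF cF p).T_le_normalizer fun _ hx => hx.1

include p in
theorem TT_le_normalizer_MM : TT chevF4 K ≤ Subgroup.normalizer (MM K : Set ↥(chevF4.group K)) :=
  (rgd (K := K) hF cF p).T_le_normalizer fun _ hx => hx.1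

include p in
/-- the torus is generated by `C₃` and the node `3` -/
theorem mem_torus {t : ↥(chevF4.group K)} (ht : t ∈ TT chevF4 K) :
    ∃ a ∈ MM K, ∃ u : Kˣ, t = a * hc hF 3 (u : K) := by
  have hG := G1_eq_top hF (K := K) cF
  have h2 : TT chevF4 K = ⨆ i, ((sl hF (K := K) i).comp OddHalf.NI.Mult.dgHom).range :=
    OddHalf.NI.Mult.torus (rgd (K := K) hF cF p) (OddHalf.NI.ExcEnd.coord hF) hG
  have hdg : ∀ (i : Fin 4) (u : Kˣ), sl hF (K := K) i (OddHalf.NI.Mult.dgHom u) = hc hF i (u : K) := by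
    intro i u
    rw [← sl_dd hF i (u : K) u.ne_zero]
    congr 1
    apply Subtype.ext
    show !![(u : K), 0; 0, ((u⁻¹ : Kˣ) : K)] = !![(u : K), 0; 0, (u : K)⁻¹]
    rw [Units.val_inv_eq_inv_val]
  rw [h2] at ht
  have h3 : t ∈ TT chevF4 K ∧ ∃ a ∈ MM K, ∃ u : Kˣ, t = a * hc hF 3 (u : K) := by
    refine Subgroup.iSup_induction (fun i => ((sl hF (K := K) i).comp OddHalf.NI.Mult.dgHom).range)
      (C := fun t => t ∈ TT chevF4 K ∧ ∃ a ∈ MM K, ∃ u : Kˣ, t = a * hc hF 3 (u : K)) ht ?_ ?_ ?_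
    · rintro i _ ⟨u, rfl⟩
      have e : ((sl hF (K := K) i).comp OddHalf.NI.Mult.dgHom) u = hc hF i (u : K) := hdg i u
      rw [e]
      refine ⟨hc_mem hF i u.ne_zero, ?_⟩
      by_cases hi : i = 3
      · subst hi
        exact ⟨1, one_mem _, u, (one_mul _).symm⟩
      · refine ⟨hc hF i (u : K), ?_, 1, ?_⟩
        · have h4 : hc hF i (u : K) ∈ XX chevF4 4 K (sr i) ⊔ XX chevF4 4 K (-sr i) := by
            rw [← range_sl hF i, ← hdg]
            exact ⟨_, rfl⟩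
          have h5 : sr i ∈ RootsJ cF hF.isCartan J3 := by
            rw [mem_RootsJ]
            exact ⟨isRoot_sr _ _ i, sr_ne (Ne.symm hi)⟩
          have h6 : -sr i ∈ RootsJ cF hF.isCartan J3 := by
            rw [mem_RootsJ] at h5 ⊢
            exact ⟨h5.1.neg, by rw [Pi.neg_apply, h5.2, neg_zero]⟩
          exact (sup_le (RGD.le_Sup h5) (RGD.le_Sup h6)) h4
        · have h7 : hc hF (3 : Fin 4) ((1 : Kˣ) : K) = (1 : ↥(chevF4.group K)) := by
            rw [← hdg, map_one, map_one]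
          rw [h7, mul_one]
    · exact ⟨one_mem _, 1, one_mem _, 1, by rw [← hdg, map_one, map_one, mul_one]⟩
    · rintro x y ⟨hx, a, ha, u, hxa⟩ ⟨hy, b, hb, v, hyb⟩
      refine ⟨mul_mem hx hy, a * (hc hF 3 (u : K) * b * (hc hF 3 (u : K))⁻¹), mul_mem ha ?_, u * v, ?_⟩
      · exact (Subgroup.mem_normalizer_iff.1 (TT_le_normalizer_MM p (hc_mem hF 3 u.ne_zero)) b).1 hb
      · rw [hxa, hyb, ← hdg 3 (u * v), map_mul, map_mul, hdg, hdg]
        group
  exact h3.2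

include p in
theorem torus_mem {t : ↥(chevF4.group K)} (ht : t ∈ TT chevF4 K) {c : K} (hc0 : c ≠ 0)
    (h : t * xc hF (vec chevF4 4 47) c = xc hF (vec chevF4 4 47) c * t) : t ∈ MM K := by
  have h47 : 47 < chevF4.nroots := by rw [nroots]; norm_num
  have L := lr_theta (K := K) p
  obtain ⟨a, ha, u, rfl⟩ := mem_torus p ht
  have hz : xc hF (vec chevF4 4 47) c ∈ XX chevF4 4 K (vec chevF4 4 47) :=
    ((coords (K := K) hF cF p).coord _ isRoot_theta).mem _ |>.2 ⟨c, rfl⟩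
  have hca : a * xc hF (vec chevF4 4 47) c = xc hF (vec chevF4 4 47) c * a := by
    refine L.comm' (RGD.Sup_mono (fun x hx => ?_) ha) hz
    rw [mem_RootsJ] at hx
    exact ⟨hx.1, by rw [cpr_theta hx.1, hx.2]⟩
  have h1 : hc hF 3 (u : K) * xc hF (vec chevF4 4 47) c = xc hF (vec chevF4 4 47) c * hc hF 3 (u : K) := by
    have e : a * (hc hF 3 (u : K) * xc hF (vec chevF4 4 47) c) = a * (xc hF (vec chevF4 4 47) c * hc hF 3 (u : K)) := by
      rw [← mul_assoc, h, ← mul_assoc, ← hca, mul_assoc]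
    exact mul_left_cancel e
  have h2 := (act hF h47 (hc_mem hF 3 u.ne_zero)).2 c
  rw [h1, mul_inv_cancel_right, ch_hc hF 3 u.ne_zero h47, cart_theta, zpow_one] at h2
  have h3 := xc_inj hF h47 h2
  have h4 : (u : K) = 1 := mul_right_cancel₀ hc0 (by rw [one_mul]; exact h3.symm)
  have h5 : hc hF (3 : Fin 4) (u : K) = (1 : ↥(chevF4.group K)) := by
    rw [h4, ← sl_dd hF 3 (1 : K) one_ne_zero]
    have : dd (1 : K) one_ne_zero = 1 := by
      apply Subtype.ext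
      show !![(1 : K), 0; 0, (1 : K)⁻¹] = _
      rw [inv_one]
      exact Matrix.one_fin_two.symm
    rw [this, map_one]
  rw [h5, mul_one]
  exact ha

end

/-- **The centraliser of `x_θ(c)`.** -/
theorem cent {g : ↥(chevF4.group K)} {c : K} (hc0 : c ≠ 0)
    (hg : g * xc hF (vec chevF4 4 47) c = xc hF (vec chevF4 4 47) c * g) :
    ∃ v ∈ VV K, ∃ m ∈ MM K, g = v * m := by
  obtain ⟨p, hpc⟩ := CharP.exists K
  have : Fact p.Prime := ⟨CharP.char_is_prime K p⟩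
  have R := rgd (K := K) hF cF p
  have h47 : 47 < chevF4.nroots := by rw [nroots]; norm_num
  have L := lr_theta (K := K) p
  have hz : xc hF (vec chevF4 4 47) c ∈ XX chevF4 4 K (vec chevF4 4 47) :=
    ((coords (K := K) hF cF p).coord _ isRoot_theta).mem _ |>.2 ⟨c, rfl⟩
  have hz1 : xc hF (vec chevF4 4 47) c ≠ (1 : ↥(chevF4.group K)) :=
    ((coords (K := K) hF cF p).coord _ isRoot_theta).ne_one hc0
  have hgg : g ∈ GG cF hF.isCartan (TT chevF4 K) (XX chevF4 4 K) := by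
    have := G1_eq_top hF (K := K) cF
    have h2 : (⊤ : Subgroup ↥(chevF4.group K)) ≤ GG cF hF.isCartan (TT chevF4 K) (XX chevF4 4 K) := by
      rw [← this]
      exact le_sup_right
    exact h2 trivial
  obtain ⟨t, ht, h1, q, hq, rfl⟩ := (L.mem_centralizer hgg hz hz1).1 hg
  have ht' := torus_mem p ht hc0 h1
  have hq2 : q ∈ VV K ⊔ MM K := by
    refine (RGD.Sup_le fun x hx => ?_ : RGD.Sup (XX chevF4 4 K) (Ge cF hF.isCartan (vec chevF4 4 47)) ≤ _) hq
    have h3 : 0 ≤ x 3 := by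
      have := hx.2
      rwa [cpr_theta hx.1] at this
    rcases h3.lt_or_eq with h4 | h4
    · exact le_trans (RGD.le_Sup (mem_NotJ.2 ⟨hx.1, h4⟩)) le_sup_left
    · exact le_trans (RGD.le_Sup (mem_RootsJ.2 ⟨hx.1, h4.symm⟩)) le_sup_right
  have hq3 : q ∈ ((VV K ⊔ MM K : Subgroup ↥(chevF4.group K)) : Set ↥(chevF4.group K)) := hq2
  rw [Subgroup.coe_mul_of_right_le_normalizer_left _ _ (MM_le_normalizer p), Set.mem_mul] at hq3
  obtain ⟨v, hv, m, hm, rfl⟩ := hq3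
  refine ⟨t * v * t⁻¹, ?_, t * m, mul_mem ht' hm, by group⟩
  exact (Subgroup.mem_normalizer_iff.1 (TT_le_normalizer p ht) v).1 hv

/-- `V_J`, `MM` centralise the root group of `θ` -/
theorem comm_theta {g z : ↥(chevF4.group K)} (hg : g ∈ VV K ⊔ MM K) (hz : z ∈ XX chevF4 4 K (vec chevF4 4 47)) :
    g * z = z * g := by
  obtain ⟨p, hpc⟩ := CharP.exists K
  have : Fact p.Prime := ⟨CharP.char_is_prime K p⟩
  refine (lr_theta (K := K) p).comm' (sup_le (RGD.Sup_mono fun x hx => ?_) (RGD.Sup_mono fun x hx => ?_) hg) hz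
  · rw [mem_NotJ] at hx
    exact ⟨hx.1, by rw [cpr_theta hx.1]; exact hx.2.le⟩
  · rw [mem_RootsJ] at hx
    exact ⟨hx.1, by rw [cpr_theta hx.1, hx.2]⟩

end Cfsg.Agent.H701.F43.Cent
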